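import Mathlib

/-!
# Lists of images
-/

set_option autoImplicit false

namespace Cfsg.Agent.Lib.KnownSimple.J2P


end Cfsg.Agent.Lib.KnownSimple.J2P
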