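import Cfsg.Agent.Lib.KnownSimple.J2P.Hom

/-!
# Strong generators
-/

set_option autoImplicit false

namespace Cfsg.Agent.Lib.KnownSimple.J2P

open Cfsg Cfsg.Spor Cfsg.Agent.Lib.Compute Cfsg.Agent.Lib.KnownSimple.PE Cfsg.Agent.Lib.KnownSimple.Leech
open Cfsg.Agent.Lib.KnownSimple Cfsg.Agent.Lib.KnownSimple.AutRigid Cfsg.Agent.Lib.KnownSimple.Pres

/-- A strong generator. -/
noncomputable def R4 : G := (D 1) * ((D 3) * ((D 1) * ((D 0) * ((D 3) * ((D 2))))))
/-- The code of a strong generator. -/
noncomputable def cR4 : ℕ → ℕ := pgetS 9 511 TR4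
/-- The inverse code of a strong generator. -/
noncomputable def ciR4 : ℕ → ℕ := pgetS 9 511 TI4
set_option maxRecDepth 100000 in
theorem code_R4 : E.IsCode ((R4 : G) : Equiv.Perm (Fin N)) (cR4) :=
  congr_of_chk (coe_code_mul (code_D 1) (coe_code_mul (code_D 3) (coe_code_mul (code_D 1) (coe_code_mul (code_D 0) (coe_code_mul (code_D 3) ((code_D 2))))))) (by decide +kernel)
set_option maxRecDepth 100000 in
theorem codei_R4 : E.IsCode ((R4⁻¹ : G) : Equiv.Perm (Fin N)) (ciR4) :=
  inv_of_chk code_R4 (by decide +kernel)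
/-- A strong generator. -/
noncomputable def R5 : G := (D 2) * ((D 1) * ((D 3) * ((D 0))))
/-- The code of a strong generator. -/
noncomputable def cR5 : ℕ → ℕ := pgetS 9 511 TR5
/-- The inverse code of a strong generator. -/
noncomputable def ciR5 : ℕ → ℕ := pgetS 9 511 TI5
set_option maxRecDepth 100000 in
theorem code_R5 : E.IsCode ((R5 : G) : Equiv.Perm (Fin N)) (cR5) :=
  congr_of_chk (coe_code_mul (code_D 2) (coe_code_mul (code_D 1) (coe_code_mul (code_D 3) ((code_D 0))))) (by decide +kernel)
set_option maxRecDepth 100000 in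
theorem codei_R5 : E.IsCode ((R5⁻¹ : G) : Equiv.Perm (Fin N)) (ciR5) :=
  inv_of_chk code_R5 (by decide +kernel)
/-- A strong generator. -/
noncomputable def R6 : G := (D 3) * ((D 0) * ((D 2) * ((D 0) * ((D 2)))))
/-- The code of a strong generator. -/
noncomputable def cR6 : ℕ → ℕ := pgetS 9 511 TR6
/-- The inverse code of a strong generator. -/
noncomputable def ciR6 : ℕ → ℕ := pgetS 9 511 TI6
set_option maxRecDepth 100000 in
theorem code_R6 : E.IsCode ((R6 : G) : Equiv.Perm (Fin N)) (cR6) :=
  congr_of_chk (coe_code_mul (code_D 3) (coe_code_mul (code_D 0) (coe_code_mul (code_D 2) (coe_code_mul (code_D 0) ((code_D 2)))))) (by decide +kernel)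
set_option maxRecDepth 100000 in
theorem codei_R6 : E.IsCode ((R6⁻¹ : G) : Equiv.Perm (Fin N)) (ciR6) :=
  inv_of_chk code_R6 (by decide +kernel)
/-- A strong generator. -/
noncomputable def R7 : G := (D 0) * ((D 3) * ((D 2) * ((D 0))))
/-- The code of a strong generator. -/
noncomputable def cR7 : ℕ → ℕ := pgetS 9 511 TR7
/-- The inverse code of a strong generator. -/
noncomputable def ciR7 : ℕ → ℕ := pgetS 9 511 TI7
set_option maxRecDepth 100000 in
theorem code_R7 : E.IsCode ((R7 : G) : Equiv.Perm (Fin N)) (cR7) :=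
  congr_of_chk (coe_code_mul (code_D 0) (coe_code_mul (code_D 3) (coe_code_mul (code_D 2) ((code_D 0))))) (by decide +kernel)
set_option maxRecDepth 100000 in
theorem codei_R7 : E.IsCode ((R7⁻¹ : G) : Equiv.Perm (Fin N)) (ciR7) :=
  inv_of_chk code_R7 (by decide +kernel)
/-- A strong generator. -/
noncomputable def R8 : G := (D 1)⁻¹ * ((D 2) * ((D 0) * ((D 1))))
/-- The code of a strong generator. -/
noncomputable def cR8 : ℕ → ℕ := pgetS 9 511 TR8
/-- The inverse code of a strong generator. -/
noncomputable def ciR8 : ℕ → ℕ := pgetS 9 511 TI8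
set_option maxRecDepth 100000 in
theorem code_R8 : E.IsCode ((R8 : G) : Equiv.Perm (Fin N)) (cR8) :=
  congr_of_chk (coe_code_mul (codei_D 1) (coe_code_mul (code_D 2) (coe_code_mul (code_D 0) ((code_D 1))))) (by decide +kernel)
set_option maxRecDepth 100000 in
theorem codei_R8 : E.IsCode ((R8⁻¹ : G) : Equiv.Perm (Fin N)) (ciR8) :=
  inv_of_chk code_R8 (by decide +kernel)
/-- A strong generator. -/
noncomputable def R9 : G := (D 1)⁻¹ * ((D 3)⁻¹ * ((D 1) * ((D 0) * ((D 2) * ((D 0))))))
/-- The code of a strong generator. -/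
noncomputable def cR9 : ℕ → ℕ := pgetS 9 511 TR9
/-- The inverse code of a strong generator. -/
noncomputable def ciR9 : ℕ → ℕ := pgetS 9 511 TI9
set_option maxRecDepth 100000 in
theorem code_R9 : E.IsCode ((R9 : G) : Equiv.Perm (Fin N)) (cR9) :=
  congr_of_chk (coe_code_mul (codei_D 1) (coe_code_mul (codei_D 3) (coe_code_mul (code_D 1) (coe_code_mul (code_D 0) (coe_code_mul (code_D 2) ((code_D 0))))))) (by decide +kernel)
set_option maxRecDepth 100000 in
theorem codei_R9 : E.IsCode ((R9⁻¹ : G) : Equiv.Perm (Fin N)) (ciR9) :=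
  inv_of_chk code_R9 (by decide +kernel)
/-- A strong generator. -/
noncomputable def R10 : G := (D 0)⁻¹ * ((D 3)⁻¹ * ((D 0)⁻¹ * ((D 2) * ((D 1) * ((D 0) * ((D 2)))))))
/-- The code of a strong generator. -/
noncomputable def cR10 : ℕ → ℕ := pgetS 9 511 TR10
/-- The inverse code of a strong generator. -/
noncomputable def ciR10 : ℕ → ℕ := pgetS 9 511 TI10
set_option maxRecDepth 100000 in
theorem code_R10 : E.IsCode ((R10 : G) : Equiv.Perm (Fin N)) (cR10) :=
  congr_of_chk (coe_code_mul (codei_D 0) (coe_code_mul (codei_D 3) (coe_code_mul (codei_D 0) (coe_code_mul (code_D 2) (coe_code_mul (code_D 1) (coe_code_mul (code_D 0) ((code_D 2)))))))) (by decide +kernel)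
set_option maxRecDepth 100000 in
theorem codei_R10 : E.IsCode ((R10⁻¹ : G) : Equiv.Perm (Fin N)) (ciR10) :=
  inv_of_chk code_R10 (by decide +kernel)
/-- A strong generator. -/
noncomputable def R11 : G := (R8)⁻¹ * ((R9) * ((R8)))
/-- The code of a strong generator. -/
noncomputable def cR11 : ℕ → ℕ := pgetS 9 511 TR11
/-- The inverse code of a strong generator. -/
noncomputable def ciR11 : ℕ → ℕ := pgetS 9 511 TI11
set_option maxRecDepth 100000 in
theorem code_R11 : E.IsCode ((R11 : G) : Equiv.Perm (Fin N)) (cR11) :=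
  congr_of_chk (coe_code_mul codei_R8 (coe_code_mul code_R9 (code_R8))) (by decide +kernel)
set_option maxRecDepth 100000 in
theorem codei_R11 : E.IsCode ((R11⁻¹ : G) : Equiv.Perm (Fin N)) (ciR11) :=
  inv_of_chk code_R11 (by decide +kernel)
/-- A strong generator. -/
noncomputable def R12 : G := (R8) * ((R10) * ((R8)))
/-- The code of a strong generator. -/
noncomputable def cR12 : ℕ → ℕ := pgetS 9 511 TR12
/-- The inverse code of a strong generator. -/
noncomputable def ciR12 : ℕ → ℕ := pgetS 9 511 TI12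
set_option maxRecDepth 100000 in
theorem code_R12 : E.IsCode ((R12 : G) : Equiv.Perm (Fin N)) (cR12) :=
  congr_of_chk (coe_code_mul code_R8 (coe_code_mul code_R10 (code_R8))) (by decide +kernel)
set_option maxRecDepth 100000 in
theorem codei_R12 : E.IsCode ((R12⁻¹ : G) : Equiv.Perm (Fin N)) (ciR12) :=
  inv_of_chk code_R12 (by decide +kernel)
/-- A strong generator. -/
noncomputable def R13 : G := (R10) * ((R8) * ((R9)))
/-- The code of a strong generator. -/
noncomputable def cR13 : ℕ → ℕ := pgetS 9 511 TR13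
/-- The inverse code of a strong generator. -/
noncomputable def ciR13 : ℕ → ℕ := pgetS 9 511 TI13
set_option maxRecDepth 100000 in
theorem code_R13 : E.IsCode ((R13 : G) : Equiv.Perm (Fin N)) (cR13) :=
  congr_of_chk (coe_code_mul code_R10 (coe_code_mul code_R8 (code_R9))) (by decide +kernel)
set_option maxRecDepth 100000 in
theorem codei_R13 : E.IsCode ((R13⁻¹ : G) : Equiv.Perm (Fin N)) (ciR13) :=
  inv_of_chk code_R13 (by decide +kernel)
/-- A strong generator. -/
noncomputable def R14 : G := (R13) * ((R13))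
/-- The code of a strong generator. -/
noncomputable def cR14 : ℕ → ℕ := pgetS 9 511 TR14
/-- The inverse code of a strong generator. -/
noncomputable def ciR14 : ℕ → ℕ := pgetS 9 511 TI14
set_option maxRecDepth 100000 in
theorem code_R14 : E.IsCode ((R14 : G) : Equiv.Perm (Fin N)) (cR14) :=
  congr_of_chk (coe_code_mul code_R13 (code_R13)) (by decide +kernel)
set_option maxRecDepth 100000 in
theorem codei_R14 : E.IsCode ((R14⁻¹ : G) : Equiv.Perm (Fin N)) (ciR14) :=
  inv_of_chk code_R14 (by decide +kernel)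
/-- A strong generator. -/
noncomputable def R15 : G := (R11)⁻¹ * ((R12) * ((R11)))
/-- The code of a strong generator. -/
noncomputable def cR15 : ℕ → ℕ := pgetS 9 511 TR15
/-- The inverse code of a strong generator. -/
noncomputable def ciR15 : ℕ → ℕ := pgetS 9 511 TI15
set_option maxRecDepth 100000 in
theorem code_R15 : E.IsCode ((R15 : G) : Equiv.Perm (Fin N)) (cR15) :=
  congr_of_chk (coe_code_mul codei_R11 (coe_code_mul code_R12 (code_R11))) (by decide +kernel)
set_option maxRecDepth 100000 in
theorem codei_R15 : E.IsCode ((R15⁻¹ : G) : Equiv.Perm (Fin N)) (ciR15) :=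
  inv_of_chk code_R15 (by decide +kernel)
/-- A strong generator. -/
noncomputable def R16 : G := (R14)⁻¹ * ((R15) * ((R14)))
/-- The code of a strong generator. -/
noncomputable def cR16 : ℕ → ℕ := pgetS 9 511 TR16
/-- The inverse code of a strong generator. -/
noncomputable def ciR16 : ℕ → ℕ := pgetS 9 511 TI16
set_option maxRecDepth 100000 in
theorem code_R16 : E.IsCode ((R16 : G) : Equiv.Perm (Fin N)) (cR16) :=
  congr_of_chk (coe_code_mul codei_R14 (coe_code_mul code_R15 (code_R14))) (by decide +kernel)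
set_option maxRecDepth 100000 in
theorem codei_R16 : E.IsCode ((R16⁻¹ : G) : Equiv.Perm (Fin N)) (ciR16) :=
  inv_of_chk code_R16 (by decide +kernel)

end Cfsg.Agent.Lib.KnownSimple.J2P
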