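import Cfsg.Agent.Lib.KnownSimple.J2P.Chain
import Cfsg.Agent.Lib.KnownSimple.J2P.DataTU
import Cfsg.Agent.Lib.KnownSimple.J2P.DataLU

/-!
# Strong generators
-/

set_option autoImplicit false

namespace Cfsg.Agent.Lib.KnownSimple.J2P

open Cfsg Cfsg.Spor Cfsg.Agent.Lib.Compute Cfsg.Agent.Lib.KnownSimple.PE Cfsg.Agent.Lib.KnownSimple.Leech
open Cfsg.Agent.Lib.KnownSimple Cfsg.Agent.Lib.KnownSimple.AutRigid Cfsg.Agent.Lib.KnownSimple.Pres

/-- A strong generator. -/
noncomputable def RU4 : G := (D 1) * ((D 3) * ((D 1) * ((D 0) * ((D 3) * ((D 2))))))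
/-- The code of a strong generator. -/
noncomputable def cRU4 : ℕ → ℕ := pgetS 9 511 TRU4
/-- The inverse code of a strong generator. -/
noncomputable def ciRU4 : ℕ → ℕ := pgetS 9 511 TIU4
set_option maxRecDepth 100000 in
theorem code_RU4 : E.IsCode ((RU4 : G) : Equiv.Perm (Fin N)) (cRU4) :=
  congr_of_chk (coe_code_mul (code_D 1) (coe_code_mul (code_D 3) (coe_code_mul (code_D 1) (coe_code_mul (code_D 0) (coe_code_mul (code_D 3) ((code_D 2))))))) (by decide +kernel)
set_option maxRecDepth 100000 in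
theorem codei_RU4 : E.IsCode ((RU4⁻¹ : G) : Equiv.Perm (Fin N)) (ciRU4) :=
  inv_of_chk code_RU4 (by decide +kernel)
/-- A strong generator. -/
noncomputable def RU5 : G := (D 2) * ((D 1) * ((D 3) * ((D 0))))
/-- The code of a strong generator. -/
noncomputable def cRU5 : ℕ → ℕ := pgetS 9 511 TRU5
/-- The inverse code of a strong generator. -/
noncomputable def ciRU5 : ℕ → ℕ := pgetS 9 511 TIU5
set_option maxRecDepth 100000 in
theorem code_RU5 : E.IsCode ((RU5 : G) : Equiv.Perm (Fin N)) (cRU5) :=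
  congr_of_chk (coe_code_mul (code_D 2) (coe_code_mul (code_D 1) (coe_code_mul (code_D 3) ((code_D 0))))) (by decide +kernel)
set_option maxRecDepth 100000 in
theorem codei_RU5 : E.IsCode ((RU5⁻¹ : G) : Equiv.Perm (Fin N)) (ciRU5) :=
  inv_of_chk code_RU5 (by decide +kernel)
/-- A strong generator. -/
noncomputable def RU6 : G := (D 3) * ((D 0) * ((D 2) * ((D 0) * ((D 2)))))
/-- The code of a strong generator. -/
noncomputable def cRU6 : ℕ → ℕ := pgetS 9 511 TRU6
/-- The inverse code of a strong generator. -/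
noncomputable def ciRU6 : ℕ → ℕ := pgetS 9 511 TIU6
set_option maxRecDepth 100000 in
theorem code_RU6 : E.IsCode ((RU6 : G) : Equiv.Perm (Fin N)) (cRU6) :=
  congr_of_chk (coe_code_mul (code_D 3) (coe_code_mul (code_D 0) (coe_code_mul (code_D 2) (coe_code_mul (code_D 0) ((code_D 2)))))) (by decide +kernel)
set_option maxRecDepth 100000 in
theorem codei_RU6 : E.IsCode ((RU6⁻¹ : G) : Equiv.Perm (Fin N)) (ciRU6) :=
  inv_of_chk code_RU6 (by decide +kernel)
/-- A strong generator. -/
noncomputable def RU7 : G := (D 0) * ((D 3) * ((D 2) * ((D 0))))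
/-- The code of a strong generator. -/
noncomputable def cRU7 : ℕ → ℕ := pgetS 9 511 TRU7
/-- The inverse code of a strong generator. -/
noncomputable def ciRU7 : ℕ → ℕ := pgetS 9 511 TIU7
set_option maxRecDepth 100000 in
theorem code_RU7 : E.IsCode ((RU7 : G) : Equiv.Perm (Fin N)) (cRU7) :=
  congr_of_chk (coe_code_mul (code_D 0) (coe_code_mul (code_D 3) (coe_code_mul (code_D 2) ((code_D 0))))) (by decide +kernel)
set_option maxRecDepth 100000 in
theorem codei_RU7 : E.IsCode ((RU7⁻¹ : G) : Equiv.Perm (Fin N)) (ciRU7) :=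
  inv_of_chk code_RU7 (by decide +kernel)
/-- A strong generator. -/
noncomputable def RU8 : G := (D 0)⁻¹ * ((D 3)⁻¹ * ((D 0)⁻¹ * ((D 2) * ((D 3) * ((D 2))))))
/-- The code of a strong generator. -/
noncomputable def cRU8 : ℕ → ℕ := pgetS 9 511 TRU8
/-- The inverse code of a strong generator. -/
noncomputable def ciRU8 : ℕ → ℕ := pgetS 9 511 TIU8
set_option maxRecDepth 100000 in
theorem code_RU8 : E.IsCode ((RU8 : G) : Equiv.Perm (Fin N)) (cRU8) :=
  congr_of_chk (coe_code_mul (codei_D 0) (coe_code_mul (codei_D 3) (coe_code_mul (codei_D 0) (coe_code_mul (code_D 2) (coe_code_mul (code_D 3) ((code_D 2))))))) (by decide +kernel)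
set_option maxRecDepth 100000 in
theorem codei_RU8 : E.IsCode ((RU8⁻¹ : G) : Equiv.Perm (Fin N)) (ciRU8) :=
  inv_of_chk code_RU8 (by decide +kernel)
/-- A strong generator. -/
noncomputable def RU9 : G := (D 0)⁻¹ * ((D 3)⁻¹ * ((D 0)⁻¹ * ((D 1) * ((D 3) * ((D 1))))))
/-- The code of a strong generator. -/
noncomputable def cRU9 : ℕ → ℕ := pgetS 9 511 TRU9
/-- The inverse code of a strong generator. -/
noncomputable def ciRU9 : ℕ → ℕ := pgetS 9 511 TIU9
set_option maxRecDepth 100000 in
theorem code_RU9 : E.IsCode ((RU9 : G) : Equiv.Perm (Fin N)) (cRU9) :=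
  congr_of_chk (coe_code_mul (codei_D 0) (coe_code_mul (codei_D 3) (coe_code_mul (codei_D 0) (coe_code_mul (code_D 1) (coe_code_mul (code_D 3) ((code_D 1))))))) (by decide +kernel)
set_option maxRecDepth 100000 in
theorem codei_RU9 : E.IsCode ((RU9⁻¹ : G) : Equiv.Perm (Fin N)) (ciRU9) :=
  inv_of_chk code_RU9 (by decide +kernel)
/-- A strong generator. -/
noncomputable def RU10 : G := (D 1)⁻¹ * ((RU7) * ((D 3) * ((D 0) * ((D 1)))))
/-- The code of a strong generator. -/
noncomputable def cRU10 : ℕ → ℕ := pgetS 9 511 TRU10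
/-- The inverse code of a strong generator. -/
noncomputable def ciRU10 : ℕ → ℕ := pgetS 9 511 TIU10
set_option maxRecDepth 100000 in
theorem code_RU10 : E.IsCode ((RU10 : G) : Equiv.Perm (Fin N)) (cRU10) :=
  congr_of_chk (coe_code_mul (codei_D 1) (coe_code_mul code_RU7 (coe_code_mul (code_D 3) (coe_code_mul (code_D 0) ((code_D 1)))))) (by decide +kernel)
set_option maxRecDepth 100000 in
theorem codei_RU10 : E.IsCode ((RU10⁻¹ : G) : Equiv.Perm (Fin N)) (ciRU10) :=
  inv_of_chk code_RU10 (by decide +kernel)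
/-- A strong generator. -/
noncomputable def RU11 : G := (RU9)⁻¹ * ((RU8) * ((RU10)))
/-- The code of a strong generator. -/
noncomputable def cRU11 : ℕ → ℕ := pgetS 9 511 TRU11
/-- The inverse code of a strong generator. -/
noncomputable def ciRU11 : ℕ → ℕ := pgetS 9 511 TIU11
set_option maxRecDepth 100000 in
theorem code_RU11 : E.IsCode ((RU11 : G) : Equiv.Perm (Fin N)) (cRU11) :=
  congr_of_chk (coe_code_mul codei_RU9 (coe_code_mul code_RU8 (code_RU10))) (by decide +kernel)
set_option maxRecDepth 100000 in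
theorem codei_RU11 : E.IsCode ((RU11⁻¹ : G) : Equiv.Perm (Fin N)) (ciRU11) :=
  inv_of_chk code_RU11 (by decide +kernel)
/-- A strong generator. -/
noncomputable def RU12 : G := (RU9)⁻¹ * ((RU10) * ((RU8) * ((RU9))))
/-- The code of a strong generator. -/
noncomputable def cRU12 : ℕ → ℕ := pgetS 9 511 TRU12
/-- The inverse code of a strong generator. -/
noncomputable def ciRU12 : ℕ → ℕ := pgetS 9 511 TIU12
set_option maxRecDepth 100000 in
theorem code_RU12 : E.IsCode ((RU12 : G) : Equiv.Perm (Fin N)) (cRU12) :=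
  congr_of_chk (coe_code_mul codei_RU9 (coe_code_mul code_RU10 (coe_code_mul code_RU8 (code_RU9)))) (by decide +kernel)
set_option maxRecDepth 100000 in
theorem codei_RU12 : E.IsCode ((RU12⁻¹ : G) : Equiv.Perm (Fin N)) (ciRU12) :=
  inv_of_chk code_RU12 (by decide +kernel)
/-- A strong generator. -/
noncomputable def RU13 : G := (RU11) * ((RU12))
/-- The code of a strong generator. -/
noncomputable def cRU13 : ℕ → ℕ := pgetS 9 511 TRU13
/-- The inverse code of a strong generator. -/
noncomputable def ciRU13 : ℕ → ℕ := pgetS 9 511 TIU13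
set_option maxRecDepth 100000 in
theorem code_RU13 : E.IsCode ((RU13 : G) : Equiv.Perm (Fin N)) (cRU13) :=
  congr_of_chk (coe_code_mul code_RU11 (code_RU12)) (by decide +kernel)
set_option maxRecDepth 100000 in
theorem codei_RU13 : E.IsCode ((RU13⁻¹ : G) : Equiv.Perm (Fin N)) (ciRU13) :=
  inv_of_chk code_RU13 (by decide +kernel)
/-- A strong generator. -/
noncomputable def RU14 : G := (RU11)⁻¹ * ((RU12) * ((RU11)))
/-- The code of a strong generator. -/
noncomputable def cRU14 : ℕ → ℕ := pgetS 9 511 TRU14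
/-- The inverse code of a strong generator. -/
noncomputable def ciRU14 : ℕ → ℕ := pgetS 9 511 TIU14
set_option maxRecDepth 100000 in
theorem code_RU14 : E.IsCode ((RU14 : G) : Equiv.Perm (Fin N)) (cRU14) :=
  congr_of_chk (coe_code_mul codei_RU11 (coe_code_mul code_RU12 (code_RU11))) (by decide +kernel)
set_option maxRecDepth 100000 in
theorem codei_RU14 : E.IsCode ((RU14⁻¹ : G) : Equiv.Perm (Fin N)) (ciRU14) :=
  inv_of_chk code_RU14 (by decide +kernel)
/-- A strong generator. -/
noncomputable def RU15 : G := (RU14) * ((RU13))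
/-- The code of a strong generator. -/
noncomputable def cRU15 : ℕ → ℕ := pgetS 9 511 TRU15
/-- The inverse code of a strong generator. -/
noncomputable def ciRU15 : ℕ → ℕ := pgetS 9 511 TIU15
set_option maxRecDepth 100000 in
theorem code_RU15 : E.IsCode ((RU15 : G) : Equiv.Perm (Fin N)) (cRU15) :=
  congr_of_chk (coe_code_mul code_RU14 (code_RU13)) (by decide +kernel)
set_option maxRecDepth 100000 in
theorem codei_RU15 : E.IsCode ((RU15⁻¹ : G) : Equiv.Perm (Fin N)) (ciRU15) :=
  inv_of_chk code_RU15 (by decide +kernel)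

end Cfsg.Agent.Lib.KnownSimple.J2P
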